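import Groth.Prelude.Def_Formal2
import Mathlib.Algebra.Homology.DerivedCategory.Ext.ExactSequences
import Mathlib.Algebra.Homology.DerivedCategory.Ext.EnoughInjectives
import Mathlib.CategoryTheory.Functor.OfSequence
import Mathlib.CategoryTheory.Abelian.EpiWithInjectiveKernel

/-!
Ext of countable products and the Milnor sequence for a sequential limit, without exact products.
-/

set_option autoImplicit false
set_option backward.isDefEq.respectTransparency false

universe w v u

open CategoryTheory CategoryTheory.Limits CategoryTheory.Abelian Opposite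

namespace Groth.Agent.ProdExt8

variable {A : Type u} [Category.{v} A] [Abelian A] [HasExt.{w} A]

/-- Pushforward of Ext classes. -/
noncomputable abbrev mp (G : A) {X Y : A} (f : X ⟶ Y) (i : ℕ) : Ext G X i →+ Ext G Y i :=
  (Ext.mk₀ f).postcomp G (add_zero i)

theorem mp_apply (G : A) {X Y : A} (f : X ⟶ Y) (i : ℕ) (x : Ext G X i) :
    mp G f i x = x.comp (Ext.mk₀ f) (add_zero i) := rfl

theorem mp_mp (G : A) {X Y Z : A} (f : X ⟶ Y) (g : Y ⟶ Z) (i : ℕ) (x : Ext G X i) :
    mp G g i (mp G f i x) = mp G (f ≫ g) i x := by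
  simp [mp]

variable [HasProductsOfShape ℕ A]

/-- Families on which products behave exactly. -/
structure ProdAcyclic (P : A → Prop) : Prop where
  coker : ∀ S : ShortComplex A, S.ShortExact → Injective S.X₂ → P S.X₁ → P S.X₃
  epi : ∀ S : ℕ → ShortComplex A, (∀ n, (S n).ShortExact) → (∀ n, Injective (S n).X₂) → (∀ n, P (S n).X₁) →
    Epi (Limits.Pi.map fun n => (S n).g)

omit [HasExt.{w} A] in
theorem shortExact_pi (S : ℕ → ShortComplex A) (hS : ∀ n, (S n).ShortExact)
    (he : Epi (Limits.Pi.map fun n => (S n).g)) :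
    ∃ w : (Limits.Pi.map fun n => (S n).f) ≫ (Limits.Pi.map fun n => (S n).g) = 0, (ShortComplex.mk _ _ w).ShortExact := by
  haveI := fun n => (hS n).mono_f
  refine ⟨Pi.hom_ext _ _ fun n => by simp, ?_⟩
  exact { exact := ShortComplex.exact_of_f_is_kernel _ (KernelFork.IsLimit.ofι' _ _ fun {T} x hx =>
    ⟨Pi.lift fun n => (hS n).exact.lift (x ≫ Pi.π _ n) (by
        have h := congrArg (fun z => z ≫ Pi.π (fun n => (S n).X₃) n) hx
        simpa using h),
      Pi.hom_ext _ _ fun n => by simp⟩) }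

theorem bijective_pi [EnoughInjectives A] {P : A → Prop} (hP : ProdAcyclic P) (G : A) :
    ∀ (i : ℕ) (F : ℕ → A), (∀ n, P (F n)) →
      Function.Bijective fun (x : Ext G (∏ᶜ F) i) (n : ℕ) => mp G (Pi.π F n) i x := by
  intro i
  induction i with
  | zero =>
    intro F _
    refine ⟨fun x y h => ?_, fun ξ => ?_⟩
    · obtain ⟨a, rfl⟩ := (Ext.mk₀_bijective _ _).2 x
      obtain ⟨b, rfl⟩ := (Ext.mk₀_bijective _ _).2 y
      refine congrArg Ext.mk₀ (Pi.hom_ext _ _ fun n => ?_)
      have := congrFun h n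
      simpa [mp, (Ext.mk₀_bijective _ _).1.eq_iff] using this
    · choose f hf using fun n => (Ext.mk₀_bijective G (F n)).2 (ξ n)
      exact ⟨Ext.mk₀ (Pi.lift f), funext fun n => by simp [mp, hf]⟩
  | succ i ih =>
    intro F hF
    let J := fun n => (EnoughInjectives.presentation (F n)).some
    let S : ℕ → ShortComplex A := fun n => ShortComplex.mk (J n).f (cokernel.π (J n).f) (cokernel.condition _)
    have hI : ∀ n, Injective (S n).X₂ := fun n => (J n).injective
    have hS : ∀ n, (S n).ShortExact := fun n => haveI := (J n).mono; { exact := ShortComplex.exact_cokernel _ }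
    have hC : ∀ n, P (S n).X₃ := fun n => hP.coker _ (hS n) (hI n) (hF n)
    obtain ⟨w, hT⟩ := shortExact_pi S hS (hP.epi S hS hI hF)
    haveI := hI
    haveI : Injective (∏ᶜ fun n => (S n).X₂) := inferInstance
    let pr : ∀ n, ShortComplex.mk _ _ w ⟶ S n := fun n =>
      { τ₁ := Pi.π (fun n => (S n).X₁) n, τ₂ := Pi.π (fun n => (S n).X₂) n, τ₃ := Pi.π (fun n => (S n).X₃) n,
        comm₁₂ := by simp, comm₂₃ := by simp }
    have hnat : ∀ (n : ℕ) (c : Ext G (∏ᶜ fun n => (S n).X₃) i),
        mp G (Pi.π F n) (i + 1) (c.comp hT.extClass rfl) = (mp G (Pi.π (fun n => (S n).X₃) n) i c).comp (hS n).extClass rfl := by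
      intro n c
      have := ShortComplex.ShortExact.extClass_naturality hT (hS n) (pr n)
      simp only [mp_apply]
      rw [Ext.comp_assoc_of_third_deg_zero, this, ← Ext.comp_assoc_of_second_deg_zero]
    obtain ⟨hinj, hsurj⟩ := ih (fun n => (S n).X₃) hC
    refine ⟨fun x y h => ?_, fun ξ => ?_⟩
    · rw [← sub_eq_zero]
      have h0 : ∀ n, mp G (Pi.π F n) (i + 1) (x - y) = 0 := fun n => by
        rw [map_sub, sub_eq_zero]; exact congrFun h n
      obtain ⟨c, hc⟩ := Ext.covariant_sequence_exact₁ _ hT (x - y) (Ext.eq_zero_of_injective _) rfl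
      rw [← hc]
      choose b hb using fun n => Ext.covariant_sequence_exact₃ _ (hS n) (mp G (Pi.π (fun n => (S n).X₃) n) i c) rfl
        (by rw [← hnat, hc]; exact h0 n)
      obtain ⟨β, hβ⟩ : ∃ β : Ext G (∏ᶜ fun n => (S n).X₂) i,
          ∀ n, mp G (Pi.π (fun n => (S n).X₂) n) i β = b n := by
        cases i with
        | zero =>
          choose f hf using fun n => (Ext.mk₀_bijective G ((S n).X₂)).2 (b n)
          exact ⟨Ext.mk₀ (Pi.lift f), fun n => by simp [mp, hf]⟩
        | succ i => exact ⟨0, fun n => by rw [map_zero]; exact (Ext.eq_zero_of_injective _).symm⟩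
      have hcb : c = mp G (Limits.Pi.map fun n => (S n).g) i β := hinj (funext fun n => by
        show mp G (Pi.π (fun n => (S n).X₃) n) i c = _
        rw [← hb n]
        refine Eq.trans ?_ (mp_mp G _ _ i β).symm
        rw [Limits.Pi.map_π, ← mp_mp, hβ]
        rfl)
      rw [hcb]
      simp only [mp_apply]
      rw [Ext.comp_assoc_of_second_deg_zero, hT.comp_extClass, Ext.comp_zero]
    · choose c hc using fun n => Ext.covariant_sequence_exact₁ _ (hS n) (ξ n) (Ext.eq_zero_of_injective _) (n₀ := i) rfl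
      obtain ⟨γ, hγ⟩ := hsurj c
      refine ⟨γ.comp hT.extClass rfl, funext fun n => ?_⟩
      exact (hnat n γ).trans ((congrArg (fun z => Ext.comp z (hS n).extClass rfl) (congrFun hγ n)).trans (hc n))

variable (F : ℕᵒᵖ ⥤ A)

/-- The difference map of a tower. -/
noncomputable def diff : (∏ᶜ fun n => F.obj (op n)) ⟶ ∏ᶜ fun n => F.obj (op n) :=
  Pi.lift fun n => Pi.π _ n - Pi.π _ (n + 1) ≫ F.map (homOfLE (Nat.le_succ n)).op

omit [HasExt.{w} A] in
theorem shortExact_limit (c : Cone F) (hc : IsLimit c) (he : Epi (diff F)) :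
    ∃ w : Pi.lift (fun n => c.π.app (op n)) ≫ diff F = 0, (ShortComplex.mk _ _ w).ShortExact := by
  refine ⟨Pi.hom_ext _ _ fun n => by simp [diff, Preadditive.comp_sub, c.w], ?_⟩
  haveI : Mono (Pi.lift fun n => c.π.app (op n)) := ⟨fun {T} x y h => hc.hom_ext fun ⟨n⟩ => by
    have := congrArg (fun z => z ≫ Pi.π (fun n => F.obj (op n)) n) h
    simpa using this⟩
  refine { exact := ShortComplex.exact_of_f_is_kernel _ (KernelFork.IsLimit.ofι' _ _ fun {T} x hx => ?_) }
  let s : Cone F := ⟨T, NatTrans.ofOpSequence (F := (Functor.const ℕᵒᵖ).obj T) (fun n => x ≫ Pi.π _ n) fun n => by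
    have h := congrArg (fun z => z ≫ Pi.π (fun n => F.obj (op n)) n) hx
    simp only [diff, Category.assoc, Pi.lift_π, Preadditive.comp_sub, zero_comp, sub_eq_zero] at h
    simpa using h⟩
  exact ⟨hc.lift s, Pi.hom_ext _ _ fun n => by simp [s]⟩

/-- The Milnor sequence. -/
theorem milnor [EnoughInjectives A] {P : A → Prop} (hP : ProdAcyclic P) (G : A) (hF : ∀ n, P (F.obj (op n)))
    (c : Cone F) (hc : IsLimit c) (he : Epi (diff F)) (i j : ℕ) (hij : j + 1 = i) :
    (∀ ξ : ∀ n, Ext G (F.obj (op n)) i, (∀ n, mp G (F.map (homOfLE (Nat.le_succ n)).op) i (ξ (n + 1)) = ξ n) →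
      ∃ η : Ext G c.pt i, ∀ n, mp G (X := c.pt) (c.π.app (op n)) i η = ξ n) ∧
    Nonempty ((AddMonoidHom.pi fun n => mp G (X := c.pt) (c.π.app (op n)) i).ker ≃+
      Formal2.limOne (fun n => Ext G (F.obj (op n)) j) fun n => mp G (F.map (homOfLE (Nat.le_succ n)).op) j) := by
  subst hij
  obtain ⟨w, hT⟩ := shortExact_limit F c hc he
  let e : ∀ k, Ext G (∏ᶜ fun n => F.obj (op n)) k ≃+ (∀ n, Ext G (F.obj (op n)) k) := fun k =>
    AddEquiv.ofBijective (AddMonoidHom.pi fun n => mp G (Pi.π (fun n => F.obj (op n)) n) k) (bijective_pi hP G k _ hF)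
  have hd : ∀ k (x : Ext G (∏ᶜ fun n => F.obj (op n)) k),
      e k (mp G (diff F) k x) = Formal2.towerDiff _ (fun n => mp G (F.map (homOfLE (Nat.le_succ n)).op) k) (e k x) := by
    intro k x
    funext n
    show mp G (Pi.π _ n) k (mp G (diff F) k x) = mp G (Pi.π _ n) k x -
      mp G (F.map (homOfLE (Nat.le_succ n)).op) k (mp G (Pi.π _ (n + 1)) k x)
    rw [mp_mp, mp_mp, diff, Pi.lift_π]
    simp only [mp_apply, sub_eq_add_neg, Ext.mk₀_add, Ext.mk₀_neg,
      Ext.comp_add, Ext.comp_neg]
  have ha : ∀ k (η : Ext G c.pt k), e k (mp G (Pi.lift fun n => c.π.app (op n)) k η) = fun n => mp G (X := c.pt) (c.π.app (op n)) k η := by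
    intro k η
    funext n
    show mp G (Pi.π (fun n => F.obj (op n)) n) k (mp G (Pi.lift fun n => c.π.app (op n)) k η) = _
    rw [mp_mp, Pi.lift_π]
  refine ⟨fun ξ hξ => ?_, ?_⟩
  · obtain ⟨η, hη⟩ := Ext.covariant_sequence_exact₂ _ hT ((e (j + 1)).symm ξ) (show mp G (diff F) (j + 1) _ = 0 from
      (e (j + 1)).injective (by
        rw [hd, AddEquiv.apply_symm_apply, map_zero]
        funext n
        exact sub_eq_zero.2 (hξ n).symm))
    refine ⟨η, fun n => ?_⟩
    have h := congrArg (e (j + 1)) hη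
    rw [AddEquiv.apply_symm_apply] at h
    exact (congrFun (ha (j + 1) η) n).symm.trans (congrFun h n)
  · let δ : (∀ n, Ext G (F.obj (op n)) j) →+ Ext G c.pt (j + 1) :=
      (hT.extClass.postcomp G rfl).comp (e j).symm.toAddMonoidHom
    have hker : δ.ker = (Formal2.towerDiff _ fun n => mp G (F.map (homOfLE (Nat.le_succ n)).op) j).range := by
      ext ξ
      constructor
      · intro h
        obtain ⟨y, hy⟩ := Ext.covariant_sequence_exact₃ _ hT ((e j).symm ξ) rfl h
        exact ⟨e j y, (hd j y).symm.trans ((congrArg (e j) hy).trans ((e j).apply_symm_apply ξ))⟩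
      · rintro ⟨y, rfl⟩
        obtain ⟨z, rfl⟩ := (e j).surjective y
        show ((e j).symm _).comp hT.extClass rfl = 0
        rw [← hd, AddEquiv.symm_apply_apply]
        simp only [mp_apply]
        rw [Ext.comp_assoc_of_second_deg_zero, hT.comp_extClass, Ext.comp_zero]
    have hrange : δ.range = (AddMonoidHom.pi fun n => mp G (X := c.pt) (c.π.app (op n)) (j + 1)).ker := by
      ext η
      constructor
      · rintro ⟨ξ, rfl⟩
        rw [AddMonoidHom.mem_ker]
        refine (ha (j + 1) _).symm.trans ?_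
        have hz : mp G (Pi.lift fun n => c.π.app (op n)) (j + 1) (δ ξ) = 0 := by
          show (((e j).symm ξ).comp hT.extClass rfl).comp (Ext.mk₀ (Pi.lift fun n => c.π.app (op n))) (add_zero (j + 1)) = 0
          rw [Ext.comp_assoc_of_third_deg_zero, hT.extClass_comp, Ext.comp_zero]
        rw [hz, map_zero]
      · intro h
        rw [AddMonoidHom.mem_ker] at h
        obtain ⟨y, hy⟩ := Ext.covariant_sequence_exact₁ _ hT η ((e (j + 1)).injective (by
          rw [map_zero]; exact (ha (j + 1) η).trans h)) (n₀ := j) rfl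
        exact ⟨e j y, (congrArg (fun z => z.comp hT.extClass rfl) ((e j).symm_apply_apply y)).trans hy⟩
    exact ⟨((QuotientAddGroup.quotientAddEquivOfEq hker.symm).trans
      ((QuotientAddGroup.quotientKerEquivRange δ).trans (AddEquiv.addSubgroupCongr hrange))).symm⟩

end Groth.Agent.ProdExt8
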