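import Groth.Agent.Lib.ProdExt8.Milnor
import Groth.Agent.Lib.CohFound.DimShift
import Groth.Agent.Lib.SiteCoh.Basic
import Mathlib.Topology.Sets.Opens

/-!
Sheaves acyclic on a basis behave well with countable products.
-/

set_option autoImplicit false
set_option backward.isDefEq.respectTransparency false

universe u

open CategoryTheory CategoryTheory.Limits CategoryTheory.Abelian TopologicalSpace Opposite

namespace Groth.Agent.ProdExt8

variable {X : TopCat.{u}} {B : Set (Opens X)} (hB : Opens.IsBasis B)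

/-- Acyclic on the basis. -/
def AcyclicOn (B : Set (Opens X)) (F : CohTop.Ab X) : Prop :=
  ∀ V ∈ B, ∀ i : ℕ, 0 < i → Subsingleton (Ext (SiteCoh.fr (Opens.grothendieckTopology X) V) F i)

include hB in
theorem epi_of_lift {F G : CohTop.Ab X} (φ : F ⟶ G)
    (h : ∀ V ∈ B, ∀ y : SiteCoh.fr (Opens.grothendieckTopology X) V ⟶ G, ∃ x, x ≫ φ = y) : Epi φ :=
  CohFound.epi_of_locally_lift φ fun U s x hx => by
    obtain ⟨V, hV, hxV, hVU⟩ := hB.exists_subset_of_mem_open hx U.isOpen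
    obtain ⟨V', hV', rfl⟩ := hV
    obtain ⟨z, hz⟩ := h V' hV' ((SiteCoh.secEquiv V' G).symm (G.obj.map (homOfLE hVU).op s))
    refine ⟨V', hVU, hxV, SiteCoh.secEquiv V' F z, ?_⟩
    rw [← SiteCoh.secEquiv_comp, hz, Equiv.apply_symm_apply]
    rfl

theorem exists_lift {S : ShortComplex (CohTop.Ab X)} (hS : S.ShortExact) (V : Opens X)
    (h : Subsingleton (Ext (SiteCoh.fr (Opens.grothendieckTopology X) V) S.X₁ 1))
    (y : SiteCoh.fr (Opens.grothendieckTopology X) V ⟶ S.X₃) : ∃ x, x ≫ S.g = y := by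
  obtain ⟨z, hz⟩ := Ext.covariant_sequence_exact₃ _ hS (Ext.mk₀ y) (n₁ := 1) rfl (h.elim _ _)
  obtain ⟨f, rfl⟩ := (Ext.mk₀_bijective _ _).2 z
  rw [Ext.mk₀_comp_mk₀] at hz
  exact ⟨f, (Ext.mk₀_bijective _ _).1 hz⟩

include hB in
theorem prodAcyclic : ProdAcyclic (AcyclicOn B) := by
  refine ⟨fun S hS hI h V hV i hi => subsingleton_of_forall_eq 0 fun x => ?_, fun S hS _ h => ?_⟩
  · obtain ⟨k, rfl⟩ : ∃ k, i = k + 1 := ⟨i - 1, by omega⟩
    obtain ⟨y, rfl⟩ := Ext.covariant_sequence_exact₃ _ hS x (n₁ := k + 1 + 1) rfl ((h V hV _ (by omega)).elim _ _)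
    rw [Ext.eq_zero_of_injective y, Ext.zero_comp]
  · refine epi_of_lift hB _ fun V hV y => ?_
    choose x hx using fun n => exists_lift (hS n) V (h n V hV 1 one_pos) (y ≫ Pi.π _ n)
    exact ⟨Pi.lift x, Pi.hom_ext _ _ fun n => by simp [hx]⟩

include hB in
theorem epi_diff (F : ℕᵒᵖ ⥤ CohTop.Ab X)
    (hsurj : ∀ V ∈ B, ∀ n : ℕ, Function.Surjective ((F.map (homOfLE (Nat.le_succ n)).op).hom.app (op V)).hom) :
    Epi (diff F) := by
  refine epi_of_lift hB _ fun V hV y => ?_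
  have hl : ∀ (n : ℕ) (w : SiteCoh.fr (Opens.grothendieckTopology X) V ⟶ F.obj (op n)),
      ∃ z : SiteCoh.fr (Opens.grothendieckTopology X) V ⟶ F.obj (op (n + 1)),
        z ≫ F.map (homOfLE (Nat.le_succ n)).op = w := fun n w => by
    obtain ⟨t, ht⟩ := hsurj V hV n (SiteCoh.secEquiv V _ w)
    exact ⟨(SiteCoh.secEquiv V _).symm t, (SiteCoh.secEquiv_symm_comp V t _).trans
      ((congrArg (SiteCoh.secEquiv V _).symm ht).trans (Equiv.symm_apply_apply _ _))⟩
  choose l hl using hl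
  let z : ∀ n, SiteCoh.fr (Opens.grothendieckTopology X) V ⟶ F.obj (op n) :=
    Nat.rec 0 fun n z => l n (z - y ≫ Pi.π (fun n => F.obj (op n)) n)
  refine ⟨Pi.lift z, Pi.hom_ext _ _ fun n => ?_⟩
  simp only [diff, Category.assoc, Pi.lift_π, Preadditive.comp_sub, Pi.lift_π_assoc]
  show z n - l n (z n - y ≫ Pi.π (fun n => F.obj (op n)) n) ≫ F.map (homOfLE (Nat.le_succ n)).op = _
  rw [hl]
  abel

end Groth.Agent.ProdExt8
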